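import Groth.Agent.EtFound.PushExact
import Groth.Agent.EtDescSplit.HFunctor
import Groth.Agent.SpObjSS.SiteLeray
import Groth.Agent.LocCohLib.SES
import Groth.Agent.SiteBase.LerayTop
import Groth.Prelude.Def_EtBC2

/-!
# Cohomology of direct images along integral morphisms, as derived functors
-/

set_option autoImplicit false

universe u

open CategoryTheory CategoryTheory.Limits CategoryTheory.Abelian AlgebraicGeometry Opposite

namespace Groth.Agent.EtIntDesc

set_option backward.isDefEq.respectTransparency false
set_option backward.isDefEq.respectTransparency.types false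

/-- `Hom(ℤ, -)`, whose derived functors are etale cohomology. -/
noncomputable abbrev gam (Y : Scheme.{u}) : EtCoh.Ab Y ⥤ AddCommGrpCat.{u + 1} :=
  SpObjSS.homFrom (EtCoh.const Y ℤ)

theorem nonempty_rightDerived_gam (Y : Scheme.{u}) (F : EtCoh.Ab Y) (n : ℕ) :
    Nonempty (((gam Y).rightDerived n).obj F ≅ AddCommGrpCat.of (EtCoh.H Y F n)) :=
  ⟨SpObjSS.rightDerivedHomFromIso _ n F⟩

variable {W Y : Scheme.{u}} (g : W ⟶ Y)

/-- Maps from the constant sheaf into a direct image. -/
noncomputable def gamPushIso : EtCoh.push g ⋙ gam Y ≅ gam W :=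
  NatIso.ofComponents (fun G => AddEquiv.toAddCommGrpIso
      (((EtCoh.pullPushAdj g).homAddEquiv (EtCoh.const Y ℤ) G).symm.trans
        { toFun := fun φ => (EtCore.pullConst g ℤ).inv ≫ φ
          invFun := fun φ => (EtCore.pullConst g ℤ).hom ≫ φ
          left_inv := fun φ => by simp
          right_inv := fun φ => by simp
          map_add' := fun φ ψ => Preadditive.comp_add _ _ _ _ _ _ }))
    (fun {G G'} h => by
      ext φ
      show (EtCore.pullConst g ℤ).inv ≫ ((EtCoh.pullPushAdj g).homEquiv _ _).symm (φ ≫ (EtCoh.push g).map h) =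
        ((EtCore.pullConst g ℤ).inv ≫ ((EtCoh.pullPushAdj g).homEquiv _ _).symm φ) ≫ h
      rw [Adjunction.homEquiv_naturality_right_symm, Category.assoc])

/-- The cohomology of a direct image along an integral morphism. -/
theorem nonempty_rightDerived_gam_push [IsIntegralHom g] (G : EtCoh.Ab W) (q : ℕ) :
    Nonempty (((gam Y).rightDerived q).obj ((EtCoh.push g).obj G) ≅ AddCommGrpCat.of (EtCoh.H W G q)) := by
  haveI := EtFound.push_preservesFiniteColimits g
  haveI := EtFound.push_preservesFiniteLimits g
  haveI := EtFound.pull_preservesFiniteLimits g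
  obtain ⟨e⟩ := LocCohLib.nonempty_rightDerived_precomp (EtCoh.push g) (gam Y) G q
  obtain ⟨e'⟩ := nonempty_rightDerived_gam W G q
  exact ⟨e.symm ≪≫ (SiteBase.rightDerivedCongr (gamPushIso g) q).app G ≪≫ e'⟩

end Groth.Agent.EtIntDesc
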