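import Groth.Agent.EtIntDesc.StalkValues
import Groth.Agent.EtFound.Stalk
import Groth.Agent.EtDescSplit.SplitCech
import Groth.Agent.EtFound.FieldExt

/-!
# The Cech resolution of a sheaf along an integral morphism
-/

set_option autoImplicit false

universe u

open CategoryTheory CategoryTheory.Limits AlgebraicGeometry Opposite Simplicial

namespace Groth.Agent.EtIntDesc

set_option backward.isDefEq.respectTransparency false
set_option backward.isDefEq.respectTransparency.types false

open EtDescSplit (pow powMap powMap_π powSimp)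

variable {X Y : Scheme.{u}} (f : X ⟶ Y)

/-- The fibre power splits off a factor. -/
theorem isPullback_widePullback (n : ℕ) :
    IsPullback
      (WidePullback.lift (WidePullback.base (fun _ : Fin (n + 2) => f)) (fun i => WidePullback.π _ i.succ)
          (fun i => WidePullback.π_arrow (fun _ : Fin (n + 2) => f) i.succ) :
        widePullback Y (fun _ : Fin (n + 2) => X) (fun _ => f) ⟶
          widePullback Y (fun _ : Fin (n + 1) => X) (fun _ => f))
      (WidePullback.π (fun _ : Fin (n + 2) => f) 0)
      (WidePullback.base (fun _ : Fin (n + 1) => f)) f := by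
  refine ⟨⟨?_⟩, ⟨PullbackCone.IsLimit.mk _
    (fun s => WidePullback.lift (s.fst ≫ WidePullback.base _)
      (Fin.cons s.snd fun i => s.fst ≫ WidePullback.π _ i) ?_) ?_ ?_ ?_⟩⟩
  · rw [WidePullback.lift_base]
    exact (WidePullback.π_arrow (fun _ : Fin (n + 2) => f) 0).symm
  · intro j
    induction j using Fin.cases with
    | zero => exact s.condition.symm
    | succ i => simp [WidePullback.π_arrow]
  · intro s
    refine WidePullback.hom_ext _ _ _ (fun i => ?_) ?_
    · rw [Category.assoc, WidePullback.lift_π]
      exact WidePullback.lift_π _ _ _ _ _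
    · rw [Category.assoc, WidePullback.lift_base, WidePullback.lift_base]
  · intro s
    exact (WidePullback.lift_π _ _ _ _ _).trans (Fin.cons_zero _ _)
  · intro s m hm hm'
    refine WidePullback.hom_ext _ _ _ (fun i => ?_) ?_
    · rw [WidePullback.lift_π]
      induction i using Fin.cases with
      | zero => exact hm'
      | succ i => rw [Fin.cons_succ, ← hm, Category.assoc, WidePullback.lift_π]
    · rw [WidePullback.lift_base, ← hm, Category.assoc, WidePullback.lift_base]

/-- The projections of fibre powers of an integral morphism are integral. -/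
theorem isIntegralHom_base [IsIntegralHom f] (n : ℕ) :
    IsIntegralHom (WidePullback.base (fun _ : Fin (n + 1) => f) :
      widePullback Y (fun _ : Fin (n + 1) => X) (fun _ => f) ⟶ Y) := by
  induction n with
  | zero =>
    have h : IsIso (WidePullback.π (fun _ : Fin 1 => f) 0) := by
      refine ⟨WidePullback.lift f (fun _ => 𝟙 X) (fun _ => Category.id_comp f), ?_, WidePullback.lift_π _ _ _ _ _⟩
      refine WidePullback.hom_ext _ _ _ (fun i => ?_) ?_
      · obtain rfl : i = 0 := Subsingleton.elim _ _
        simp
      · simp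
    rw [← WidePullback.π_arrow (fun _ : Fin 1 => f) 0]
    infer_instance
  | succ n this =>
    have h := MorphismProperty.of_isPullback (P := @IsIntegralHom) (isPullback_widePullback f n) this
    rw [← WidePullback.π_arrow (fun _ : Fin (n + 1 + 1) => f) 0]
    infer_instance

variable [IsIntegralHom f] (F : EtCoh.Ab Y)

instance (n : ℕ) : IsIntegralHom (pow f n).hom := isIntegralHom_base f n

/-- The cosimplicial sheaf of the fibre powers. -/
noncomputable def cosimp : CosimplicialObject (EtCoh.Ab Y) where
  obj m := pp (pow f m.len).hom F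
  map g := pk (powMap f g.toOrderHom).left _ _ (Over.w (powMap f g.toOrderHom)) F
  map_id m := hom_ext_ev (pow f m.len).hom F fun Ω _ _ η ξ hξ p => by
    rw [ev_pk (powMap f _).left _ _ _ hξ (by rw [Category.assoc, Over.w]; exact hξ)]
    have e : ξ ≫ (powMap f (𝟙 m : m ⟶ m).toOrderHom).left = ξ := by
      have : powMap f (𝟙 m : m ⟶ m).toOrderHom = 𝟙 _ :=
        EtDescSplit.pow_hom_ext f fun i => (powMap_π f _ i).trans (Category.id_comp _).symm
      rw [this]
      exact Category.comp_id _
    simp only [CategoryTheory.Functor.map_id, ConcreteCategory.id_apply]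
    congr 2
    congr 1
  map_comp {a b c} g g' := hom_ext_ev (pow f c.len).hom F fun Ω _ _ η ξ hξ p => by
    have h₁ : (ξ ≫ (powMap f g'.toOrderHom).left) ≫ (pow f b.len).hom = η := by
      rw [Category.assoc, Over.w]; exact hξ
    have h₂ : ((ξ ≫ (powMap f g'.toOrderHom).left) ≫ (powMap f g.toOrderHom).left) ≫ (pow f a.len).hom = η := by
      rw [Category.assoc, Over.w]; exact h₁
    rw [ev_pk (powMap f _).left _ _ _ hξ (by rw [Category.assoc, Over.w]; exact hξ),
      Functor.map_comp, ConcreteCategory.comp_apply, ev_pk _ _ _ _ hξ h₁, ev_pk _ _ _ _ h₁ h₂]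
    have e : powMap f g'.toOrderHom ≫ powMap f g.toOrderHom = powMap f (g ≫ g').toOrderHom :=
      EtDescSplit.pow_hom_ext f fun i => by
        rw [Over.comp_left, Category.assoc]
        erw [powMap_π, powMap_π, powMap_π]
        rfl
    have e' : ξ ≫ (powMap f (g ≫ g').toOrderHom).left =
        (ξ ≫ (powMap f g'.toOrderHom).left) ≫ (powMap f g.toOrderHom).left := by
      rw [← e, Over.comp_left, Category.assoc]
    congr 2
    congr 1

/-- The resolution. -/
noncomputable abbrev rCx : CochainComplex (EtCoh.Ab Y) ℕ :=
  (AlgebraicTopology.alternatingCofaceMapComplex (EtCoh.Ab Y)).obj (cosimp f F)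

/-- The augmentation. -/
noncomputable def rAug : F ⟶ (rCx f F).X 0 := (EtCoh.pullPushAdj (pow f 0).hom).unit.app F

theorem ev_unit {W : Scheme.{u}} (w : W ⟶ Y) {Ω : Type u} [Field Ω] [IsAlgClosed Ω]
    {η : Spec (CommRingCat.of Ω) ⟶ Y} {ξ : Spec (CommRingCat.of Ω) ⟶ W} (hξ : ξ ≫ w = η)
    (p : ToType (stk η F)) :
    ev w hξ F ((Scheme.pointSmallEtale η).sheafFiber.map ((EtCoh.pullPushAdj w).unit.app F) p) = p := by
  obtain ⟨V, v, b, rfl⟩ := (Scheme.pointSmallEtale η).toPresheafFiber_jointly_surjective (P := F.obj) p
  refine (congrArg (ev w hξ F) (GrothendieckTopology.Point.toPresheafFiber_naturality_apply _ _ _ _ _)).trans ?_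
  exact (ev_germ w hξ F V v _).trans (val_up w hξ F V v b)

theorem rCx_d (n : ℕ) : (rCx f F).d n (n + 1) = ∑ i : Fin (n + 2), (-1 : ℤ) ^ (i : ℕ) •
    CosimplicialObject.δ (cosimp f F) i := by
  dsimp only [rCx, AlgebraicTopology.alternatingCofaceMapComplex,
    AlgebraicTopology.AlternatingCofaceMapComplex.obj]
  rw [CochainComplex.of_d, AlgebraicTopology.AlternatingCofaceMapComplex.objD]

theorem δ_eq (n : ℕ) (i : Fin (n + 2)) :
    CosimplicialObject.δ (cosimp f F) i =
      pk (powMap f i.succAbove).left (pow f n).hom (pow f (n + 1)).hom (Over.w _) F := rfl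

end Groth.Agent.EtIntDesc
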