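import Groth.Agent.EtIntDesc.Complex
import Groth.Agent.TopDescent.FiniteFibreSS

/-!
# Exactness of the Cech resolution along an integral surjective morphism
-/

set_option autoImplicit false

universe w u

open CategoryTheory CategoryTheory.Limits AlgebraicGeometry Opposite Simplicial

namespace Groth.Agent.EtIntDesc

set_option backward.isDefEq.respectTransparency false
set_option backward.isDefEq.respectTransparency.types false

open EtDescSplit (pow powMap powMap_π powCx dd dd_apply aug d_eq)

variable {X Y : Scheme.{u}}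

/-- Locally constant functions with values in a group. -/
noncomputable def lcF (S : Scheme.{u}) (M : AddCommGrpCat.{u + 1}) : (Over S)ᵒᵖ ⥤ AddCommGrpCat.{u + 1} where
  obj Z := AddCommGrpCat.of (LocallyConstant ↥Z.unop.left (ToType M))
  map {Z Z'} m := AddCommGrpCat.ofHom
    (AddMonoidHom.mk' (LocallyConstant.comap ⟨m.unop.left.base, m.unop.left.continuous⟩) fun _ _ => rfl)
  map_id Z := by ext c; rfl
  map_comp m m' := by ext c; rfl

theorem lcF_map_apply (S : Scheme.{u}) (M : AddCommGrpCat.{u + 1}) {Z Z' : Over S} (m : Z' ⟶ Z)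
    (c : LocallyConstant ↥Z.left (ToType M)) (z : ↥Z'.left) :
    (show LocallyConstant ↥Z'.left (ToType M) from (lcF S M).map m.op c) z = c (m.left.base z) := rfl

theorem homeo_symm_comp {S T U : Scheme.{u}} (e : T ≅ U) (g : S ⟶ T) (x : ↥S) :
    (TopCat.homeoOfIso (Scheme.forgetToTop.mapIso e)).symm ((g ≫ e.hom).base x) = g.base x :=
  (TopCat.homeoOfIso (Scheme.forgetToTop.mapIso e)).symm_apply_apply (g.base x)

variable (f : X ⟶ Y) {Ω : Type u} [Field Ω] [IsAlgClosed Ω] (η : Spec (CommRingCat.of Ω) ⟶ Y)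

/-- The fibre of a fibre power is the fibre power of the fibre. -/
noncomputable def uIso (n : ℕ) : pullback (pow f n).hom η ≅ (pow (pullback.snd f η) n).left where
  hom := WidePullback.lift (pullback.snd (pow f n).hom η)
    (fun i => pullback.lift (pullback.fst (pow f n).hom η ≫ WidePullback.π (fun _ : Fin (n + 1) => f) i)
      (pullback.snd (pow f n).hom η) (by
        rw [Category.assoc, WidePullback.π_arrow]; exact pullback.condition))
    (fun _ => pullback.lift_snd _ _ _)
  inv := pullback.lift (WidePullback.lift (WidePullback.base (fun _ : Fin (n + 1) => pullback.snd f η) ≫ η)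
      (fun i => WidePullback.π (fun _ : Fin (n + 1) => pullback.snd f η) i ≫ pullback.fst f η)
      (fun i => by rw [Category.assoc, pullback.condition, ← Category.assoc, WidePullback.π_arrow]))
    (WidePullback.base _) (WidePullback.lift_base _ _ _ _)
  hom_inv_id := by
    apply pullback.hom_ext
    · refine WidePullback.hom_ext _ _ _ (fun i => ?_) ?_
      · simp
      · simpa using (pullback.condition (f := (pow f n).hom) (g := η)).symm
    · simp
  inv_hom_id := by
    refine WidePullback.hom_ext _ _ _ (fun i => ?_) ?_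
    · apply pullback.hom_ext <;> simp
    · simp

/-- The comparison, on points. -/
theorem lift_uIso {n m : ℕ} (α : Fin (m + 1) → Fin (n + 1))
    {ξ : Spec (CommRingCat.of Ω) ⟶ (pow f n).left} (hξ : ξ ≫ (pow f n).hom = η)
    (hξ' : (ξ ≫ (powMap f α).left) ≫ (pow f m).hom = η) :
    pullback.lift (ξ ≫ (powMap f α).left) (𝟙 _) (hξ'.trans (Category.id_comp η).symm) ≫ (uIso f η m).hom =
      (pullback.lift ξ (𝟙 _) (hξ.trans (Category.id_comp η).symm) ≫ (uIso f η n).hom) ≫
        (powMap (pullback.snd f η) α).left := by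
  refine WidePullback.hom_ext _ _ _ (fun i => ?_) ?_
  · rw [Category.assoc _ (powMap (pullback.snd f η) α).left, powMap_π]
    apply pullback.hom_ext
    · simp only [uIso, Category.assoc, WidePullback.lift_π, pullback.lift_fst, pullback.lift_fst_assoc]
      exact congrArg (ξ ≫ ·) (powMap_π f α i)
    · simp [uIso]
  · rw [Category.assoc _ (powMap (pullback.snd f η) α).left]
    erw [Over.w (powMap (pullback.snd f η) α)]
    simp [uIso]

variable [IsIntegralHom f] (F : EtCoh.Ab Y)

/-- The fibre power of the fibre, as a space. -/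
noncomputable def uHomeo (n : ℕ) : ↥(pullback (pow f n).hom η) ≃ₜ ↥(pow (pullback.snd f η) n).left :=
  TopCat.homeoOfIso (Scheme.forgetToTop.mapIso (uIso f η n))

/-- Stalks of the resolution. -/
noncomputable def eq' (n : ℕ) : ToType (stk η (pp (pow f n).hom F)) ≃+
    LocallyConstant ↥(pow (pullback.snd f η) n).left (ToType (stk η F)) :=
  (evEquiv (pow f n).hom F η).trans
    { toFun := LocallyConstant.comap ⟨(uHomeo f η n).symm, (uHomeo f η n).symm.continuous⟩
      invFun := LocallyConstant.comap ⟨(uHomeo f η n), (uHomeo f η n).continuous⟩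
      left_inv := fun c => LocallyConstant.ext fun z => congrArg c ((uHomeo f η n).symm_apply_apply z)
      right_inv := fun c => LocallyConstant.ext fun z => congrArg c ((uHomeo f η n).apply_symm_apply z)
      map_add' := fun _ _ => rfl }

theorem eq'_apply (n : ℕ) (p : ToType (stk η (pp (pow f n).hom F))) (z : ↥(pow (pullback.snd f η) n).left) :
    eq' f η F n p z = evEquiv (pow f n).hom F η p ((uHomeo f η n).symm z) := rfl

omit F in
theorem uHomeo_symm_pt (n : ℕ) (g : Spec (CommRingCat.of Ω) ⟶ pullback (pow f n).hom η) :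
    (uHomeo f η n).symm ((g ≫ (uIso f η n).hom).base (default : Spec (CommRingCat.of Ω))) =
      g.base (default : Spec (CommRingCat.of Ω)) :=
  homeo_symm_comp (uIso f η n) g _

theorem eq'_pt (n : ℕ) (p : ToType (stk η (pp (pow f n).hom F))) {ξ : Spec (CommRingCat.of Ω) ⟶ (pow f n).left}
    (hξ : ξ ≫ (pow f n).hom = η) :
    eq' f η F n p ((pullback.lift ξ (𝟙 _) (hξ.trans (Category.id_comp η).symm) ≫ (uIso f η n).hom).base
      (default : Spec (CommRingCat.of Ω))) = ev (pow f n).hom hξ F p :=
  (eq'_apply f η F n p _).trans ((congrArg (evEquiv (pow f n).hom F η p) (uHomeo_symm_pt f η n _)).trans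
    (evEquiv_pt (pow f n).hom F p hξ))

theorem exists_pt (n : ℕ) (z : ↥(pow (pullback.snd f η) n).left) :
    ∃ (ξ : Spec (CommRingCat.of Ω) ⟶ (pow f n).left) (hξ : ξ ≫ (pow f n).hom = η),
      (pullback.lift ξ (𝟙 _) (hξ.trans (Category.id_comp η).symm) ≫ (uIso f η n).hom).base
        (default : Spec (CommRingCat.of Ω)) = z := by
  obtain ⟨ξ, hξ, e⟩ := EtFound.exists_fibrePt_eq (pow f n).hom ((uHomeo f η n).symm z)
  refine ⟨ξ, hξ, ?_⟩
  exact (Scheme.Hom.comp_apply _ _ _).trans ((congrArg (uHomeo f η n) e).trans ((uHomeo f η n).apply_symm_apply z))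

/-- Stalks commute with restrictions. -/
theorem eq'_pk {n m : ℕ} (α : Fin (m + 1) → Fin (n + 1)) (p : ToType (stk η (pp (pow f m).hom F))) :
    eq' f η F n ((Scheme.pointSmallEtale η).sheafFiber.map
        (pk (powMap f α).left (pow f m).hom (pow f n).hom (Over.w _) F) p) =
      (lcF (Spec (CommRingCat.of Ω)) (stk η F)).map (powMap (pullback.snd f η) α).op (eq' f η F m p) := by
  refine LocallyConstant.ext fun z => ?_
  obtain ⟨ξ, hξ, rfl⟩ := exists_pt f η n z
  have hξ' : (ξ ≫ (powMap f α).left) ≫ (pow f m).hom = η := by rw [Category.assoc, Over.w]; exact hξ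
  refine (eq'_pt f η F n _ hξ).trans ((ev_pk _ _ _ _ hξ hξ' F p).trans ?_)
  refine (eq'_pt f η F m p hξ').symm.trans ?_
  refine Eq.trans (congrArg (eq' f η F m p) ?_) (lcF_map_apply _ _ _ _ _).symm
  exact (congrArg (fun k => k.base (default : Spec (CommRingCat.of Ω))) (lift_uIso f η α hξ hξ')).trans
    (Scheme.Hom.comp_apply _ _ _)

theorem stalk_additive : (EtCoh.stalk η).Additive :=
  Functor.additive_of_preserves_binary_products _

theorem map_sum_apply {A B : EtCoh.Ab Y} {ι : Type} (s : Finset ι) (c : ι → ℤ) (φ : ι → (A ⟶ B))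
    (p : ToType (stk η A)) :
    (Scheme.pointSmallEtale η).sheafFiber.map (∑ i ∈ s, c i • φ i) p =
      ∑ i ∈ s, c i • (Scheme.pointSmallEtale η).sheafFiber.map (φ i) p := by
  haveI : (EtCoh.stalk η).Additive := stalk_additive η
  show (EtCoh.stalk η).map (∑ i ∈ s, c i • φ i) p = _
  rw [Functor.map_sum]
  simp only [Functor.map_zsmul]
  let ev' : (stk η A ⟶ stk η B) →+ ToType (stk η B) := AddMonoidHom.mk' (fun ψ => ψ p) (fun _ _ => rfl)
  exact (map_sum ev' _ _).trans (Finset.sum_congr rfl fun i _ => map_zsmul ev' _ _)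

/-- Stalks of the differentials. -/
theorem eq'_d (n : ℕ) (p : ToType (stk η ((rCx f F).X n))) :
    eq' f η F (n + 1) ((Scheme.pointSmallEtale η).sheafFiber.map ((rCx f F).d n (n + 1)) p) =
      dd (pullback.snd f η) (lcF (Spec (CommRingCat.of Ω)) (stk η F)) n (eq' f η F n p) := by
  rw [rCx_d, dd_apply]
  refine (congrArg (eq' f η F (n + 1)) (map_sum_apply η _ _ _ p)).trans ?_
  rw [map_sum]
  refine Finset.sum_congr rfl fun i _ => ?_
  rw [map_zsmul, δ_eq]
  exact congrArg (_ • ·) (eq'_pk f η F i.succAbove p)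

/-- Stalks of the augmentation. -/
theorem eq'_aug (p : ToType (stk η F)) :
    eq' f η F 0 ((Scheme.pointSmallEtale η).sheafFiber.map (rAug f F) p) =
      (lcF (Spec (CommRingCat.of Ω)) (stk η F)).map (aug (pullback.snd f η) 0).op
        (LocallyConstant.const _ p) := by
  refine LocallyConstant.ext fun z => ?_
  obtain ⟨ξ, hξ, rfl⟩ := exists_pt f η 0 z
  exact (eq'_pt f η F 0 _ hξ).trans (ev_unit F _ hξ p)

theorem exists_section [Surjective f] :
    ∃ s : Spec (CommRingCat.of Ω) ⟶ pullback f η, s ≫ pullback.snd f η = 𝟙 _ := by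
  obtain ⟨w, -⟩ := (pullback.snd f η).surjective (default : Spec (CommRingCat.of Ω))
  obtain ⟨l, hl, -⟩ := EtFound.exists_section_of_integral (pullback.snd f η) w
  exact ⟨l, hl⟩

theorem stalk_exact_succ [Surjective f] (n : ℕ) :
    (((rCx f F).sc' n (n + 1) (n + 1 + 1)).map (EtCoh.stalk η)).Exact := by
  obtain ⟨s, hs⟩ := exists_section f η
  rw [ShortComplex.ab_exact_iff]
  intro x hx
  have hx' : dd (pullback.snd f η) (lcF _ (stk η F)) (n + 1) (eq' f η F (n + 1) x) = 0 := by
    rw [← eq'_d]
    exact (congrArg (eq' f η F (n + 1 + 1)) hx).trans (map_zero _)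
  obtain ⟨y, hy⟩ := EtDescSplit.cocycle_eq_boundary (pullback.snd f η) (lcF _ (stk η F)) s hs n _ hx'
  refine ⟨(eq' f η F n).symm y, (eq' f η F (n + 1)).injective ?_⟩
  refine (eq'_d f η F n _).trans ?_
  exact (congrArg (dd _ _ n) ((eq' f η F n).apply_symm_apply y)).trans hy

theorem stalk_aug_injective [Surjective f] :
    Function.Injective ((EtCoh.stalk η).map (rAug f F)) := by
  obtain ⟨s, hs⟩ := exists_section f η
  intro a b h
  have h' := ((eq'_aug f η F a).symm.trans (congrArg (eq' f η F 0) h)).trans (eq'_aug f η F b)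
  exact LocallyConstant.congr_fun (EtDescSplit.aug_injective (pullback.snd f η) _ s hs h')
    (default : Spec (CommRingCat.of Ω))

theorem zero_cocycle_const {S' T : Scheme.{u}} (g : T ⟶ S') [Subsingleton ↥S'] [Nonempty ↥S'] (M : AddCommGrpCat.{u + 1})
    (s : S' ⟶ T) (hs : s ≫ g = 𝟙 S') (x : ToType ((lcF S' M).obj (op (pow g 0))))
    (hx : dd g (lcF S' M) 0 x = 0) :
    ∃ m : ToType M, (lcF S' M).map (aug g 0).op (LocallyConstant.const _ m) = x := by
  let c : LocallyConstant ↥S' (ToType M) := (lcF S' M).map (EtDescSplit.sec g s hs).op x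
  obtain ⟨z⟩ := (inferInstance : Nonempty ↥S')
  have hc : (LocallyConstant.const ↥S' (c z)) = c :=
    LocallyConstant.ext fun z' => congrArg c (Subsingleton.elim z z')
  refine ⟨c z, ?_⟩
  exact (congrArg ((lcF S' M).map (aug g 0).op) hc).trans (EtDescSplit.cocycle_zero g _ s hs x hx)

theorem stalk_exact_zero [Surjective f] (x : ToType (stk η ((rCx f F).X 0)))
    (hx : (EtCoh.stalk η).map ((rCx f F).d 0 1) x = 0) :
    ∃ a, (EtCoh.stalk η).map (rAug f F) a = x := by
  obtain ⟨s, hs⟩ := exists_section f η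
  obtain ⟨m, hm⟩ := zero_cocycle_const (pullback.snd f η) (stk η F) s hs (eq' f η F 0 x)
    ((eq'_d f η F 0 x).symm.trans ((congrArg (eq' f η F 1) hx).trans (map_zero _)))
  exact ⟨m, (eq' f η F 0).injective ((eq'_aug f η F m).trans hm)⟩

omit η in
theorem exact_of_alg (S : ShortComplex (EtCoh.Ab Y))
    (h : ∀ (Ω : Type u) [Field Ω] [IsAlgClosed Ω] (η : Spec (CommRingCat.of Ω) ⟶ Y),
      (S.map (EtCoh.stalk η)).Exact) : S.Exact :=
  (EtFound.exact_iff_stalks S).2 fun k _ _ ξ =>
    (ShortComplex.exact_iff_of_iso (S.mapNatIso (EtFound.stalkExtIso AddCommGrpCat.{u + 1} ξ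
      (Spec.map (CommRingCat.ofHom (algebraMap k (AlgebraicClosure k))))))).2 (h _ _)

omit η in
theorem exactAt_rCx [Surjective f] (n : ℕ) : (rCx f F).ExactAt (n + 1) := by
  rw [HomologicalComplex.exactAt_iff' _ n (n + 1) (n + 1 + 1) (by simp) (by simp)]
  exact exact_of_alg _ fun Ω _ _ η => stalk_exact_succ f η F n

omit η in
theorem nonempty_homology_zero [Surjective f] : Nonempty ((rCx f F).homology 0 ≅ F) := by
  haveI : Mono (rAug f F) := (EtFound.mono_iff_stalks _).2 fun k _ _ ξ => by
    let e := EtFound.stalkExtIso AddCommGrpCat.{u + 1} ξ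
      (Spec.map (CommRingCat.ofHom (algebraMap k (AlgebraicClosure k))))
    intro a b hab
    refine (ConcreteCategory.bijective_of_isIso (e.hom.app F)).1 (stalk_aug_injective f _ F ?_)
    exact ((NatTrans.naturality_apply e.hom (rAug f F) a).symm.trans
      (congrArg (e.hom.app _) hab)).trans (NatTrans.naturality_apply e.hom (rAug f F) b)
  have w : rAug f F ≫ (rCx f F).d 0 1 = 0 := eq_of_stalks_alg _ _ fun Ω _ _ η => by
    refine ConcreteCategory.hom_ext _ _ fun p => (eq' f η F 1).injective ?_
    rw [Functor.map_comp, ConcreteCategory.comp_apply]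
    refine (eq'_d f η F 0 _).trans ?_
    rw [eq'_aug, EtDescSplit.aug_d]
    exact ((congrArg (eq' f η F 1) (by
      rw [show (Scheme.pointSmallEtale η).sheafFiber.map (0 : F ⟶ (rCx f F).X 1) = 0 from
        (EtCoh.stalk η).map_zero _ _]; rfl)).trans (map_zero _)).symm
  refine TopDescent.nonempty_homology_zero_of_augmented (rCx f F) (rAug f F) w
    (exact_of_alg _ fun Ω _ _ η => ?_)
  rw [ShortComplex.ab_exact_iff]
  exact fun x hx => stalk_exact_zero f η F x hx

end Groth.Agent.EtIntDesc
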