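import Groth.Agent.EtFound.IntegralStalk
import Groth.Agent.EtFound.PullGerm
import Groth.Agent.EtDescSplit.Coherence

/-!
# Functoriality of `W ↦ w_* w⁻¹ F` and its effect on stalks
-/

set_option autoImplicit false

universe u

open CategoryTheory CategoryTheory.Limits AlgebraicGeometry Opposite

namespace Groth.Agent.EtIntDesc

set_option backward.isDefEq.respectTransparency false
set_option backward.isDefEq.respectTransparency.types false

open EtDescSplit (θ up up_natural θ_up bcD bcD_fst)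

variable {Y W W' : Scheme.{u}}

/-- `w_* w⁻¹ F`. -/
noncomputable abbrev pp (w : W ⟶ Y) (F : EtCoh.Ab Y) : EtCoh.Ab Y :=
  (EtCoh.push w).obj ((EtCoh.pull w).obj F)

/-- The restriction `w_* w⁻¹ F ⟶ w'_* w'⁻¹ F`. -/
noncomputable def pk (k : W' ⟶ W) (w : W ⟶ Y) (w' : W' ⟶ Y) (e : k ≫ w = w') (F : EtCoh.Ab Y) :
    pp w F ⟶ pp w' F :=
  (EtCoh.pullPushAdj w').homEquiv (pp w F) ((EtCoh.pull w').obj F)
    ((θ k w w' e).inv.app (pp w F) ≫
      (EtCoh.pull k).map ((EtCoh.pullPushAdj w).counit.app ((EtCoh.pull w).obj F)) ≫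
      (θ k w w' e).hom.app F)

theorem counit_up (w : W ⟶ Y) (G : EtCoh.Ab W) (V : Y.Etale)
    (a : EtCoh.sect G ((EtCoh.bc w).obj V)) :
    ((EtCoh.pullPushAdj w).counit.app G).hom.app (op ((EtCoh.bc w).obj V))
      (up w ((EtCoh.push w).obj G) V a) = a :=
  ConcreteCategory.congr_hom (NatTrans.congr_app (congrArg (fun z => z.hom)
    ((EtCoh.pullPushAdj w).right_triangle_components G)) (op V)) a

theorem homEquiv_app (w : W ⟶ Y) (G : EtCoh.Ab Y) (H : EtCoh.Ab W) (ψ : (EtCoh.pull w).obj G ⟶ H)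
    (V : Y.Etale) (a : EtCoh.sect G V) :
    ((EtCoh.pullPushAdj w).homEquiv G H ψ).hom.app (op V) a = ψ.hom.app (op ((EtCoh.bc w).obj V)) (up w G V a) := by
  rw [Adjunction.homEquiv_unit]
  rfl

theorem iso_inv_hom_app {G H : EtCoh.Ab W} (i : G ≅ H) (U : W.Etale) (z : EtCoh.sect G U) :
    i.inv.hom.app (op U) (i.hom.hom.app (op U) z) = z :=
  ConcreteCategory.congr_hom (NatTrans.congr_app (congrArg (fun z => z.hom) i.hom_inv_id) _) z

theorem comp3_app {A B C D : EtCoh.Ab W} (f : A ⟶ B) (g : B ⟶ C) (h : C ⟶ D) (U : W.Etale) (z : EtCoh.sect A U) :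
    (f ≫ g ≫ h).hom.app (op U) z = h.hom.app (op U) (g.hom.app (op U) (f.hom.app (op U) z)) := rfl

/-- The transposed map on a pulled back section. -/
theorem aux_sect (k : W' ⟶ W) {X G : EtCoh.Ab W} (κ : X ⟶ G) {X' F' : EtCoh.Ab W'}
    (i : (EtCoh.pull k).obj X ≅ X') (j : (EtCoh.pull k).obj G ⟶ F') (U : W.Etale) (x : EtCoh.sect X U)
    (a : EtCoh.sect G U) (hx : κ.hom.app (op U) x = a) :
    (i.inv ≫ (EtCoh.pull k).map κ ≫ j).hom.app (op ((EtCoh.bc k).obj U))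
        (i.hom.hom.app (op ((EtCoh.bc k).obj U)) (up k X U x)) =
      j.hom.app (op ((EtCoh.bc k).obj U)) (up k G U a) := by
  subst hx
  rw [comp3_app, iso_inv_hom_app, up_natural]

/-- The restriction, on sections. -/
theorem pk_sect (k : W' ⟶ W) (w : W ⟶ Y) (w' : W' ⟶ Y) (e : k ≫ w = w') (F : EtCoh.Ab Y) (V : Y.Etale)
    (a : EtCoh.sect (pp w F) V) (d : (EtCoh.bc k).obj ((EtCoh.bc w).obj V) ⟶ (EtCoh.bc w').obj V)
    (hd : d.left ≫ pullback.fst V.hom w' = pullback.fst ((EtCoh.bc w).obj V).hom k ≫ pullback.fst V.hom w) :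
    ((EtCoh.pull w').obj F).obj.map d.op ((pk k w w' e F).hom.app (op V) a) =
      ((θ k w w' e).hom.app F).hom.app (op ((EtCoh.bc k).obj ((EtCoh.bc w).obj V)))
        (up k ((EtCoh.pull w).obj F) ((EtCoh.bc w).obj V) a) := by
  refine (congrArg (((EtCoh.pull w').obj F).obj.map d.op) (homEquiv_app w' _ _ _ V a)).trans ?_
  refine (NatTrans.naturality_apply _ d.op _).symm.trans ?_
  refine (congrArg _ (θ_up k w w' e (pp w F) V a d hd).symm).trans ?_
  exact aux_sect k ((EtCoh.pullPushAdj w).counit.app ((EtCoh.pull w).obj F))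
    ((θ k w w' e).app (pp w F)) ((θ k w w' e).hom.app F) ((EtCoh.bc w).obj V) _ a
    (counit_up w ((EtCoh.pull w).obj F) V a)

/-- Stalks at algebraically closed points detect equality. -/
theorem eq_of_stalks_alg {F G : EtCoh.Ab Y} (a b : F ⟶ G)
    (h : ∀ (Ω : Type u) [Field Ω] [IsAlgClosed Ω] (η : Spec (CommRingCat.of Ω) ⟶ Y),
      (Scheme.pointSmallEtale η).sheafFiber.map a = (Scheme.pointSmallEtale η).sheafFiber.map b) : a = b := by
  refine EtFound.eq_of_stalks (A := AddCommGrpCat.{u + 1}) a b fun k _ _ ξ => ?_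
  let l := Spec.map (CommRingCat.ofHom (algebraMap k (AlgebraicClosure k)))
  refine (cancel_epi ((EtFound.stalkExtIso AddCommGrpCat.{u + 1} ξ l).inv.app F)).1 ?_
  rw [← NatTrans.naturality, ← NatTrans.naturality, h]

section Stalk

variable {Ω : Type u} [Field Ω] [IsAlgClosed Ω] {η : Spec (CommRingCat.of Ω) ⟶ Y}

/-- The stalk of an inverse image. -/
noncomputable def val (w : W ⟶ Y) {ξ : Spec (CommRingCat.of Ω) ⟶ W} (hξ : ξ ≫ w = η) (F : EtCoh.Ab Y) :
    (Scheme.pointSmallEtale ξ).sheafFiber.obj ((EtCoh.pull w).obj F) ⟶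
      (Scheme.pointSmallEtale η).sheafFiber.obj F :=
  (EtFound.sheafFiberPullIso (A := AddCommGrpCat.{u + 1}) w ξ).hom.app F ≫ eqToHom (by rw [hξ])

theorem val_bijective (w : W ⟶ Y) {ξ : Spec (CommRingCat.of Ω) ⟶ W} (hξ : ξ ≫ w = η) (F : EtCoh.Ab Y) :
    Function.Bijective (val w hξ F) :=
  haveI : IsIso (val w hξ F) := IsIso.comp_isIso' inferInstance inferInstance
  ConcreteCategory.bijective_of_isIso _

theorem val_up (w : W ⟶ Y) {ξ : Spec (CommRingCat.of Ω) ⟶ W} (hξ : ξ ≫ w = η) (F : EtCoh.Ab Y) (V : Y.Etale)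
    (v : (Scheme.pointSmallEtale η).fiber.obj V) (b : EtCoh.sect F V) :
    val w hξ F ((Scheme.pointSmallEtale ξ).toPresheafFiber _ (EtFound.liftPt w hξ v)
      ((EtCoh.pull w).obj F).obj (up w F V b)) =
    (Scheme.pointSmallEtale η).toPresheafFiber V v F.obj b := by
  subst hξ
  have e : EtFound.bcFiberEquiv w ξ V (EtFound.liftPt w rfl v) = v :=
    (EtFound.bcFiberEquiv w ξ V).apply_symm_apply v
  have h := ConcreteCategory.congr_hom
    (EtFound.sheafFiberPullIso_germ (A := AddCommGrpCat.{u + 1}) w ξ F V (EtFound.liftPt w rfl v)) b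
  rw [e] at h
  show ((EtFound.sheafFiberPullIso (A := AddCommGrpCat.{u + 1}) w ξ).hom.app F ≫ 𝟙 _) _ = _
  rw [Category.comp_id]
  refine (congrArg _ h.symm).trans ?_
  exact ConcreteCategory.congr_hom
    ((EtFound.sheafFiberPullIso (A := AddCommGrpCat.{u + 1}) w ξ).inv_hom_id_app F) _

theorem map_liftPt (k : W' ⟶ W) (w : W ⟶ Y) (w' : W' ⟶ Y) (e : k ≫ w = w')
    {ξ : Spec (CommRingCat.of Ω) ⟶ W'} (hξ' : ξ ≫ w' = η) (hξ : (ξ ≫ k) ≫ w = η) (V : Y.Etale)
    (v : (Scheme.pointSmallEtale η).fiber.obj V)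
    (d : (EtCoh.bc k).obj ((EtCoh.bc w).obj V) ⟶ (EtCoh.bc w').obj V)
    (hd : d.left ≫ pullback.fst V.hom w' = pullback.fst ((EtCoh.bc w).obj V).hom k ≫ pullback.fst V.hom w) :
    (Scheme.pointSmallEtale ξ).fiber.map d
      (EtFound.liftPt k (η := ξ ≫ k) rfl (EtFound.liftPt w hξ v)) = EtFound.liftPt w' hξ' v := by
  apply CategoryTheory.Over.OverMorphism.ext
  show (pullback.lift (pullback.lift (v.left : Spec (CommRingCat.of Ω) ⟶ V.left) (ξ ≫ k) _) ξ _ :
      Spec (CommRingCat.of Ω) ⟶ pullback ((EtCoh.bc w).obj V).hom k) ≫ d.left =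
    (pullback.lift (v.left : Spec (CommRingCat.of Ω) ⟶ V.left) ξ _ : Spec (CommRingCat.of Ω) ⟶ pullback V.hom w')
  refine pullback.hom_ext ?_ ?_
  · refine (Category.assoc _ _ _).trans ((congrArg (_ ≫ ·) hd).trans ?_)
    refine (Category.assoc _ _ _).symm.trans ((congrArg (· ≫ _) (pullback.lift_fst _ _ _)).trans ?_)
    exact (pullback.lift_fst _ _ _).trans (pullback.lift_fst _ _ _).symm
  · refine (Category.assoc _ _ _).trans ((congrArg (_ ≫ ·) (MorphismProperty.Over.w d)).trans ?_)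
    exact (pullback.lift_snd _ _ _).trans (pullback.lift_snd _ _ _).symm

theorem exists_d (k : W' ⟶ W) (w : W ⟶ Y) (w' : W' ⟶ Y) (e : k ≫ w = w') (V : Y.Etale) :
    ∃ d : (EtCoh.bc k).obj ((EtCoh.bc w).obj V) ⟶ (EtCoh.bc w').obj V,
      d.left ≫ pullback.fst V.hom w' = pullback.fst ((EtCoh.bc w).obj V).hom k ≫ pullback.fst V.hom w := by
  subst e
  exact ⟨bcD k w V, bcD_fst k w V⟩

/-- Compatibility with the composition isomorphism. -/
theorem val_θ (k : W' ⟶ W) (w : W ⟶ Y) (w' : W' ⟶ Y) (e : k ≫ w = w')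
    {ξ : Spec (CommRingCat.of Ω) ⟶ W'} (hξ' : ξ ≫ w' = η) (hξ : (ξ ≫ k) ≫ w = η) (F : EtCoh.Ab Y)
    (c : ToType ((Scheme.pointSmallEtale ξ).sheafFiber.obj ((EtCoh.pull k).obj ((EtCoh.pull w).obj F)))) :
    val w' hξ' F ((Scheme.pointSmallEtale ξ).sheafFiber.map ((θ k w w' e).hom.app F) c) =
      val w hξ F (val k (η := ξ ≫ k) rfl ((EtCoh.pull w).obj F) c) := by
  obtain ⟨V, v, b, hb⟩ := (Scheme.pointSmallEtale η).toPresheafFiber_jointly_surjective (P := F.obj)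
    (val w hξ F (val k (η := ξ ≫ k) rfl ((EtCoh.pull w).obj F) c))
  obtain ⟨d, hd⟩ := exists_d k w w' e V
  obtain rfl : (Scheme.pointSmallEtale ξ).toPresheafFiber _
      (EtFound.liftPt k (η := ξ ≫ k) rfl (EtFound.liftPt w hξ v))
      ((EtCoh.pull k).obj ((EtCoh.pull w).obj F)).obj (up k _ _ (up w F V b)) = c := by
    refine (val_bijective k (η := ξ ≫ k) rfl _).1 ((val_bijective w hξ F).1 ?_)
    rw [val_up, val_up]
    exact hb
  refine Eq.trans ?_ hb
  refine Eq.trans (congrArg (val w' hξ' F) ?_) (val_up w' hξ' F V v b)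
  refine (GrothendieckTopology.Point.toPresheafFiber_naturality_apply _ _ _ _ _).trans ?_
  refine (congrArg _ (θ_up k w w' e F V b d hd)).trans ?_
  refine ((Scheme.pointSmallEtale ξ).toPresheafFiber_w_apply d _ _ _).trans ?_
  rw [map_liftPt k w w' e hξ' hξ V v d hd]
  rfl

/-- The value at a point of the fibre. -/
noncomputable def ev (w : W ⟶ Y) {ξ : Spec (CommRingCat.of Ω) ⟶ W} (hξ : ξ ≫ w = η) (F : EtCoh.Ab Y) :
    (Scheme.pointSmallEtale η).sheafFiber.obj (pp w F) ⟶ (Scheme.pointSmallEtale η).sheafFiber.obj F :=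
  (EtFound.pushStalkAt (A := AddCommGrpCat.{u + 1}) w hξ).app ((EtCoh.pull w).obj F) ≫ val w hξ F

theorem ev_germ (w : W ⟶ Y) {ξ : Spec (CommRingCat.of Ω) ⟶ W} (hξ : ξ ≫ w = η) (F : EtCoh.Ab Y) (V : Y.Etale)
    (v : (Scheme.pointSmallEtale η).fiber.obj V) (a : EtCoh.sect (pp w F) V) :
    ev w hξ F ((Scheme.pointSmallEtale η).toPresheafFiber V v (pp w F).obj a) =
      val w hξ F ((Scheme.pointSmallEtale ξ).toPresheafFiber _ (EtFound.liftPt w hξ v)
        ((EtCoh.pull w).obj F).obj a) :=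
  congrArg (val w hξ F) (EtFound.pushStalkAt_germ_apply (A := AddCommGrpCat.{u + 1}) w hξ _ v a)

/-- The restriction is composition on the points of the fibres. -/
theorem ev_pk (k : W' ⟶ W) (w : W ⟶ Y) (w' : W' ⟶ Y) (e : k ≫ w = w')
    {ξ : Spec (CommRingCat.of Ω) ⟶ W'} (hξ' : ξ ≫ w' = η) (hξ : (ξ ≫ k) ≫ w = η) (F : EtCoh.Ab Y)
    (p : ToType ((Scheme.pointSmallEtale η).sheafFiber.obj (pp w F))) :
    ev w' hξ' F ((Scheme.pointSmallEtale η).sheafFiber.map (pk k w w' e F) p) = ev w hξ F p := by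
  obtain ⟨V, v, a, rfl⟩ := (Scheme.pointSmallEtale η).toPresheafFiber_jointly_surjective (P := (pp w F).obj) p
  obtain ⟨d, hd⟩ := exists_d k w w' e V
  refine (congrArg (ev w' hξ' F) (GrothendieckTopology.Point.toPresheafFiber_naturality_apply _ _ _ _ _)).trans ?_
  refine (ev_germ w' hξ' F V v _).trans (Eq.trans ?_ (ev_germ w hξ F V v a).symm)
  rw [← map_liftPt k w w' e hξ' hξ V v d hd]
  refine (congrArg (val w' hξ' F) (((Scheme.pointSmallEtale ξ).toPresheafFiber_w_apply d _ _ _).symm.trans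
    ((congrArg _ (pk_sect k w w' e F V a d hd)).trans
      (GrothendieckTopology.Point.toPresheafFiber_naturality_apply _ _ _ _ _).symm))).trans ?_
  refine (val_θ k w w' e hξ' hξ F _).trans (congrArg (val w hξ F) ?_)
  exact val_up k (η := ξ ≫ k) rfl _ _ (EtFound.liftPt w hξ v) a

/-- The values determine an element of the stalk. -/
theorem ev_injective (w : W ⟶ Y) [IsIntegralHom w] (F : EtCoh.Ab Y)
    (p q : ToType ((Scheme.pointSmallEtale η).sheafFiber.obj (pp w F)))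
    (h : ∀ (ξ : Spec (CommRingCat.of Ω) ⟶ W) (hξ : ξ ≫ w = η), ev w hξ F p = ev w hξ F q) : p = q :=
  EtFound.pushStalkAt_injective (A := AddCommGrpCat.{u + 1}) w ((EtCoh.pull w).obj F) (funext fun ξ =>
    (val_bijective w ξ.2 F).1 (h ξ.1 ξ.2))

/-- Sheaf maps are detected by the values. -/
theorem hom_ext_ev {G : EtCoh.Ab Y} (w : W ⟶ Y) [IsIntegralHom w] (F : EtCoh.Ab Y) {φ ψ : G ⟶ pp w F}
    (h : ∀ (Ω : Type u) [Field Ω] [IsAlgClosed Ω] (η : Spec (CommRingCat.of Ω) ⟶ Y)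
      (ξ : Spec (CommRingCat.of Ω) ⟶ W) (hξ : ξ ≫ w = η) (p : ToType ((Scheme.pointSmallEtale η).sheafFiber.obj G)),
      ev w hξ F ((Scheme.pointSmallEtale η).sheafFiber.map φ p) =
        ev w hξ F ((Scheme.pointSmallEtale η).sheafFiber.map ψ p)) : φ = ψ :=
  eq_of_stalks_alg φ ψ fun Ω _ _ η => ConcreteCategory.hom_ext _ _ fun p =>
    ev_injective w F _ _ fun ξ hξ => h Ω η ξ hξ p

end Stalk

end Groth.Agent.EtIntDesc
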