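import Groth.Agent.EtIntDesc.PushPull
import Groth.Agent.EtFound.Germ
import Mathlib.Topology.LocallyConstant.Algebra

/-!
# The stalk of `w_* w⁻¹ F` at a geometric point is the group of locally constant functions on the fibre
-/

set_option autoImplicit false

universe u

open CategoryTheory CategoryTheory.Limits AlgebraicGeometry Opposite

namespace Groth.Agent.EtIntDesc

set_option backward.isDefEq.respectTransparency false
set_option backward.isDefEq.respectTransparency.types false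

open EtDescSplit (up up_res)

variable {Y W : Scheme.{u}} {Ω : Type u} [Field Ω] [IsAlgClosed Ω] {η : Spec (CommRingCat.of Ω) ⟶ Y}
  (w : W ⟶ Y) (F : EtCoh.Ab Y)

/-- The stalk of the sheaf at the point below. -/
noncomputable abbrev stk (η : Spec (CommRingCat.of Ω) ⟶ Y) (F : EtCoh.Ab Y) : AddCommGrpCat.{u + 1} :=
  (Scheme.pointSmallEtale η).sheafFiber.obj F

theorem germ_liftPt_eq {ξ : Spec (CommRingCat.of Ω) ⟶ W} (hξ : ξ ≫ w = η) (G : EtCoh.Ab W) {V V' : Y.Etale}
    (m : V' ⟶ V) (v' : (Scheme.pointSmallEtale η).fiber.obj V') (a : EtCoh.sect G ((EtCoh.bc w).obj V)) :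
    (Scheme.pointSmallEtale ξ).toPresheafFiber _ (EtFound.liftPt w hξ v') G.obj
        (G.obj.map ((EtCoh.bc w).map m).op a) =
      (Scheme.pointSmallEtale ξ).toPresheafFiber _
        (EtFound.liftPt w hξ ((Scheme.pointSmallEtale η).fiber.map m v')) G.obj a := by
  rw [← EtFound.liftPt_map w hξ m v']
  exact (Scheme.pointSmallEtale ξ).toPresheafFiber_w_apply _ _ _ _

/-- Equality of germs spreads to an open set. -/
theorem exists_open_germ_eq {U : W.Etale} (G : EtCoh.Ab W) (a b : EtCoh.sect G U)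
    {ξ₀ : Spec (CommRingCat.of Ω) ⟶ W} (t₀ : (Scheme.pointSmallEtale ξ₀).fiber.obj U)
    (h : (Scheme.pointSmallEtale ξ₀).toPresheafFiber U t₀ G.obj a =
      (Scheme.pointSmallEtale ξ₀).toPresheafFiber U t₀ G.obj b) :
    ∃ O : U.left.Opens, (t₀.left : Spec (CommRingCat.of Ω) ⟶ U.left).base (default : Spec (CommRingCat.of Ω)) ∈ O ∧
      ∀ (ξ : Spec (CommRingCat.of Ω) ⟶ W) (t : (Scheme.pointSmallEtale ξ).fiber.obj U),
        (t.left : Spec (CommRingCat.of Ω) ⟶ U.left).base (default : Spec (CommRingCat.of Ω)) ∈ O →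
        (Scheme.pointSmallEtale ξ).toPresheafFiber U t G.obj a =
          (Scheme.pointSmallEtale ξ).toPresheafFiber U t G.obj b := by
  obtain ⟨U', g, y, hy, hab⟩ := ((Scheme.pointSmallEtale ξ₀).toPresheafFiber_eq_iff' U t₀ a b).1 h
  have := EtFound.etale_left g
  have : IsOpen (Set.range g.left.base) := g.left.isOpenMap.isOpen_range
  refine ⟨⟨Set.range g.left.base, this⟩, ?_, fun ξ t ht => ?_⟩
  · rw [← hy]
    exact ⟨(y.left : Spec (CommRingCat.of Ω) ⟶ U'.left).base (default : Spec (CommRingCat.of Ω)),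
      (Scheme.Hom.comp_apply _ _ _).symm⟩
  · obtain ⟨z, hz⟩ := ht
    obtain ⟨t', ht', -⟩ := EtFound.exists_lift_point g t z hz
    rw [← ht']
    exact ((Scheme.pointSmallEtale ξ).toPresheafFiber_w_apply g t' _ a).symm.trans
      ((congrArg _ hab).trans ((Scheme.pointSmallEtale ξ).toPresheafFiber_w_apply g t' _ b))

/-- The values are locally constant. -/
theorem exists_open_ev_eq (p : ToType (stk η (pp w F))) {ξ₀ : Spec (CommRingCat.of Ω) ⟶ W} (hξ₀ : ξ₀ ≫ w = η) :
    ∃ E : Set ↥(pullback w η), IsOpen E ∧ EtFound.fibrePt w hξ₀ ∈ E ∧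
      ∀ (ξ : Spec (CommRingCat.of Ω) ⟶ W) (hξ : ξ ≫ w = η), EtFound.fibrePt w hξ ∈ E →
        ev w hξ F p = ev w hξ₀ F p := by
  obtain ⟨V, v, a, rfl⟩ := (Scheme.pointSmallEtale η).toPresheafFiber_jointly_surjective (P := (pp w F).obj) p
  obtain ⟨V₁, v₁, b, hb⟩ := (Scheme.pointSmallEtale η).toPresheafFiber_jointly_surjective (P := F.obj)
    (ev w hξ₀ F ((Scheme.pointSmallEtale η).toPresheafFiber V v (pp w F).obj a))
  let x : (Scheme.pointSmallEtale η).fiber.Elements := (Scheme.pointSmallEtale η).fiber.elementsMk V v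
  let x₁ : (Scheme.pointSmallEtale η).fiber.Elements := (Scheme.pointSmallEtale η).fiber.elementsMk V₁ v₁
  obtain ⟨⟨V₂, v₂⟩, f, f₁, -⟩ := IsCofilteredOrEmpty.cone_objs x x₁
  obtain ⟨m, hm⟩ : ∃ m : V₂ ⟶ V, (Scheme.pointSmallEtale η).fiber.map m v₂ = v := ⟨_, f.2⟩
  obtain ⟨m₁, hm₁⟩ : ∃ m : V₂ ⟶ V₁, (Scheme.pointSmallEtale η).fiber.map m v₂ = v₁ := ⟨_, f₁.2⟩
  let G := (EtCoh.pull w).obj F
  let a' : EtCoh.sect G ((EtCoh.bc w).obj V₂) := G.obj.map ((EtCoh.bc w).map m).op a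
  let b' : EtCoh.sect G ((EtCoh.bc w).obj V₂) := G.obj.map ((EtCoh.bc w).map m₁).op (up w F V₁ b)
  have ea : ∀ (ξ : Spec (CommRingCat.of Ω) ⟶ W) (hξ : ξ ≫ w = η),
      ev w hξ F ((Scheme.pointSmallEtale η).toPresheafFiber V v (pp w F).obj a) =
        val w hξ F ((Scheme.pointSmallEtale ξ).toPresheafFiber _ (EtFound.liftPt w hξ v₂) G.obj a') :=
    fun ξ hξ => by
      refine (ev_germ w hξ F V v a).trans (congrArg (val w hξ F) ?_)
      rw [← hm]
      exact (germ_liftPt_eq w hξ G m v₂ a).symm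
  have eb : ∀ (ξ : Spec (CommRingCat.of Ω) ⟶ W) (hξ : ξ ≫ w = η),
      (Scheme.pointSmallEtale η).toPresheafFiber V₁ v₁ F.obj b =
        val w hξ F ((Scheme.pointSmallEtale ξ).toPresheafFiber _ (EtFound.liftPt w hξ v₂) G.obj b') :=
    fun ξ hξ => by
      refine (val_up w hξ F V₁ v₁ b).symm.trans (congrArg (val w hξ F) ?_)
      rw [← hm₁]
      exact (germ_liftPt_eq w hξ G m₁ v₂ (up w F V₁ b)).symm
  obtain ⟨O, hO, hOeq⟩ := exists_open_germ_eq G a' b' (EtFound.liftPt w hξ₀ v₂)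
    ((val_bijective w hξ₀ F).1 (((ea ξ₀ hξ₀).symm.trans hb.symm).trans (eb ξ₀ hξ₀)))
  refine ⟨(EtFound.fibreTo w v₂).base ⁻¹' (O : Set _), O.2.preimage (EtFound.fibreTo w v₂).continuous,
    Set.mem_preimage.2 (EtFound.mem_opens_congr (EtFound.fibreTo_pt w hξ₀ v₂) hO), fun ξ hξ hE => ?_⟩
  refine ((ea ξ hξ).trans ((congrArg (val w hξ F) (hOeq ξ _ ?_)).trans (eb ξ hξ).symm)).trans hb
  exact EtFound.mem_opens_congr (EtFound.fibreTo_pt w hξ v₂).symm (Set.mem_preimage.1 hE)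

variable [IsIntegralHom w]

/-- A point over a point of the fibre. -/
noncomputable def ptOf (z : ↥(pullback w η)) : {ξ : Spec (CommRingCat.of Ω) ⟶ W // ξ ≫ w = η} :=
  ⟨(EtFound.exists_fibrePt_eq w z).choose, (EtFound.exists_fibrePt_eq w z).choose_spec.choose⟩

theorem ptOf_spec (z : ↥(pullback w η)) : EtFound.fibrePt w (ptOf w z).2 = z :=
  (EtFound.exists_fibrePt_eq w z).choose_spec.choose_spec

/-- The function on the fibre of an element of the stalk. -/
noncomputable def evFun (η : Spec (CommRingCat.of Ω) ⟶ Y) (p : ToType (stk η (pp w F))) :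
    LocallyConstant ↥(pullback w η) (ToType (stk η F)) where
  toFun z := ev w (ptOf w z).2 F p
  isLocallyConstant := IsLocallyConstant.iff_exists_open _ |>.2 fun z => by
    obtain ⟨E, hE, hz, h⟩ := exists_open_ev_eq w F p (ptOf w z).2
    refine ⟨E, hE, Set.mem_of_eq_of_mem (ptOf_spec w z).symm hz, fun z' hz' => ?_⟩
    exact h _ _ (Set.mem_of_eq_of_mem (ptOf_spec w z') hz')

theorem evFun_apply (p : ToType (stk η (pp w F))) (z : ↥(pullback w η)) :
    evFun w F η p z = ev w (ptOf w z).2 F p := rfl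

theorem evFun_pt (p : ToType (stk η (pp w F))) {ξ : Spec (CommRingCat.of Ω) ⟶ W} (hξ : ξ ≫ w = η) :
    evFun w F η p (EtFound.fibrePt w hξ) = ev w hξ F p := by
  obtain ⟨E, -, hz, h⟩ := exists_open_ev_eq w F p hξ
  rw [evFun_apply]
  exact h _ _ (Set.mem_of_eq_of_mem (ptOf_spec w _) hz)

/-- Every locally constant function comes from the stalk. -/
theorem exists_evFun_eq (c : LocallyConstant ↥(pullback w η) (ToType (stk η F))) :
    ∃ p, evFun w F η p = c := by
  choose V₀ v₀ b hb using fun ξ : {ξ : Spec (CommRingCat.of Ω) ⟶ W // ξ ≫ w = η} =>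
    (Scheme.pointSmallEtale η).toPresheafFiber_jointly_surjective (P := F.obj) (c (EtFound.fibrePt w ξ.2))
  obtain ⟨p, hp⟩ := EtFound.exists_preimage_of_local (A := AddCommGrpCat.{u + 1}) w ((EtCoh.pull w).obj F)
    (fun ξ : {ξ : Spec (CommRingCat.of Ω) ⟶ W // ξ ≫ w = η} =>
      Function.surjInv (val_bijective w ξ.2 F).2 (c (EtFound.fibrePt w ξ.2)))
    (fun ξ₀ => ⟨V₀ ξ₀, v₀ ξ₀, ⊤,
      ((EtCoh.pull w).obj F).obj.map (EtFound.restrictEtaleHom _ ⊤).op (up w F (V₀ ξ₀) (b ξ₀)),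
      c ⁻¹' {c (EtFound.fibrePt w ξ₀.2)}, c.isLocallyConstant _, rfl, trivial, fun ξ r hr hE => by
        refine ((Scheme.pointSmallEtale ξ.1).toPresheafFiber_w_apply _ r _ _).trans ?_
        refine (val_bijective w ξ.2 F).1 ?_
        rw [hr, Function.surjInv_eq (val_bijective w ξ.2 F).2]
        exact ((val_up w ξ.2 F (V₀ ξ₀) (v₀ ξ₀) (b ξ₀)).trans (hb ξ₀)).trans hE.symm⟩)
  refine ⟨p, LocallyConstant.ext fun z => ?_⟩
  obtain ⟨ξ, hξ, rfl⟩ := EtFound.exists_fibrePt_eq w z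
  rw [evFun_pt]
  refine (congrArg (val w hξ F) (hp ⟨ξ, hξ⟩)).trans ?_
  exact Function.surjInv_eq (val_bijective w hξ F).2 _

theorem evFun_injective : Function.Injective (evFun w F η) := fun p q h =>
  ev_injective w F p q fun ξ hξ => by rw [← evFun_pt w F p hξ, ← evFun_pt w F q hξ, h]

theorem evFun_add (p q : ToType (stk η (pp w F))) : evFun w F η (p + q) = evFun w F η p + evFun w F η q := by
  ext z
  exact map_add (ev w (ptOf w z).2 F).hom p q

/-- The stalk as a group of functions. -/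
noncomputable def evEquiv (η : Spec (CommRingCat.of Ω) ⟶ Y) :
    ToType (stk η (pp w F)) ≃+ LocallyConstant ↥(pullback w η) (ToType (stk η F)) :=
  AddEquiv.ofBijective (AddMonoidHom.mk' (evFun w F η) (evFun_add w F))
    ⟨evFun_injective w F, exists_evFun_eq w F⟩

theorem evEquiv_pt (p : ToType (stk η (pp w F))) {ξ : Spec (CommRingCat.of Ω) ⟶ W} (hξ : ξ ≫ w = η) :
    evEquiv w F η p (EtFound.fibrePt w hξ) = ev w hξ F p :=
  evFun_pt w F p hξ

end Groth.Agent.EtIntDesc
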